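/-
Covariant derivatives along functionals: induced connections, horizontality.
-/
import Groth.Prelude.Def_Conn
import Mathlib.LinearAlgebra.TensorProduct.Basis
import Mathlib.LinearAlgebra.Trace

set_option autoImplicit false

universe u v

open scoped TensorProduct
open TensorProduct

namespace Groth.Agent.Conn3

variable {A : Type v} {B Ω M M' N : Type u} [CommRing A] [CommRing B] [Algebra A B]
  [AddCommGroup Ω] [Module B Ω] [Module A Ω] [IsScalarTower A B Ω]
  [AddCommGroup M] [Module B M] [Module A M] [IsScalarTower A B M]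
  [AddCommGroup M'] [Module B M'] [Module A M'] [IsScalarTower A B M']
  [AddCommGroup N] [Module B N]

/-- Contraction with a functional. -/
noncomputable def ctr (θ : Ω →ₗ[B] B) : N ⊗[B] Ω →ₗ[B] N :=
  (TensorProduct.rid B N).toLinearMap ∘ₗ TensorProduct.map LinearMap.id θ

@[simp] theorem ctr_tmul (θ : Ω →ₗ[B] B) (n : N) (ω : Ω) : ctr θ (n ⊗ₜ[B] ω) = θ ω • n := by simp [ctr]

omit [Module A Ω] [IsScalarTower A B Ω] in
theorem along_eq (nabla : M →ₗ[A] M ⊗[B] Ω) (θ : Ω →ₗ[B] B) (m : M) : Conn.along nabla θ m = ctr θ (nabla m) := rfl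

theorem ctr_map {N' : Type u} [AddCommGroup N'] [Module B N'] (θ : Ω →ₗ[B] B) (φ : N →ₗ[B] N') (z : N ⊗[B] Ω) :
    ctr θ (TensorProduct.map φ LinearMap.id z) = φ (ctr θ z) := by
  induction z using TensorProduct.induction_on with
  | zero => simp
  | tmul n ω => simp
  | add x y hx hy => simp only [map_add, hx, hy]

theorem eq_of_ctr [Module.Free B Ω] [Module.Finite B Ω] {z z' : N ⊗[B] Ω} (h : ∀ θ : Ω →ₗ[B] B, ctr θ z = ctr θ z') :
    z = z' := by
  classical
  let b := Module.Free.chooseBasis B Ω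
  have hdec : ∀ w : N ⊗[B] Ω, w = ∑ i, ctr (b.coord i) w ⊗ₜ[B] b i := fun w => by
    induction w using TensorProduct.induction_on with
    | zero => simp
    | tmul n ω =>
      simp only [ctr_tmul, TensorProduct.smul_tmul, ← TensorProduct.tmul_sum, Module.Basis.coord_apply, b.sum_repr]
    | add x y hx hy => simp only [map_add, TensorProduct.add_tmul, Finset.sum_add_distrib, ← hx, ← hy]
  rw [hdec z, hdec z']
  simp only [h]

theorem isHorizontal_of_along [Module.Free B Ω] [Module.Finite B Ω] {n : M →ₗ[A] M ⊗[B] Ω}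
    {n' : M' →ₗ[A] M' ⊗[B] Ω} {φ : M →ₗ[B] M'}
    (h : ∀ (θ : Ω →ₗ[B] B) (m : M), Conn.along n' θ (φ m) = φ (Conn.along n θ m)) : Conn.IsHorizontal n n' φ :=
  fun m => eq_of_ctr fun θ => by rw [ctr_map]; exact h θ m

theorem along_conn {δ : Derivation A B Ω} {nabla : M →ₗ[A] M ⊗[B] Ω} (h : Conn.IsConn δ nabla) (θ : Ω →ₗ[B] B)
    (b : B) (m : M) : Conn.along nabla θ (b • m) = b • Conn.along nabla θ m + θ (δ b) • m := by
  rw [along_eq, along_eq, h, map_add, map_smul, ctr_tmul]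

theorem along_triv (δ : Derivation A B Ω) (θ : Ω →ₗ[B] B) (b : B) : Conn.along (Conn.triv δ) θ b = θ (δ b) := by
  rw [along_eq, Conn.triv_apply, ctr_tmul, smul_eq_mul, mul_one]

theorem along_hom {n : M →ₗ[A] M ⊗[B] Ω} {n' : M' →ₗ[A] M' ⊗[B] Ω} {n'' : (M →ₗ[B] M') →ₗ[A] (M →ₗ[B] M') ⊗[B] Ω}
    (h : Conn.IsHomConn n n' n'') (θ : Ω →ₗ[B] B) (φ : M →ₗ[B] M') (m : M) :
    Conn.along n'' θ φ m = Conn.along n' θ (φ m) - φ (Conn.along n θ m) := by
  have := congrArg (ctr θ) (h φ m)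
  rwa [ctr_map, map_sub, ctr_map, LinearMap.applyₗ_apply_apply, ← along_eq, ← along_eq, ← along_eq] at this

theorem along_tensor {n : M →ₗ[A] M ⊗[B] Ω} {n' : M' →ₗ[A] M' ⊗[B] Ω}
    {n'' : M ⊗[B] M' →ₗ[A] (M ⊗[B] M') ⊗[B] Ω} (h : Conn.IsTensorConn n n' n'') (θ : Ω →ₗ[B] B) (m : M) (m' : M') :
    Conn.along n'' θ (m ⊗ₜ[B] m') = Conn.along n θ m ⊗ₜ[B] m' + m ⊗ₜ[B] Conn.along n' θ m' := by
  have hl : ∀ z : M ⊗[B] Ω, ctr θ (Conn.swapR (z ⊗ₜ[B] m')) = ctr θ z ⊗ₜ[B] m' := fun z => by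
    induction z using TensorProduct.induction_on with
    | zero => simp
    | tmul a ω => rw [Conn.swapR_tmul, ctr_tmul, ctr_tmul, TensorProduct.smul_tmul']
    | add x y hx hy => simp only [TensorProduct.add_tmul, map_add, hx, hy]
  have hr : ∀ z : M' ⊗[B] Ω, ctr θ ((TensorProduct.assoc B M M' Ω).symm (m ⊗ₜ[B] z)) = m ⊗ₜ[B] ctr θ z := fun z => by
    induction z using TensorProduct.induction_on with
    | zero => simp
    | tmul a ω => simp [TensorProduct.assoc_symm_tmul]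
    | add x y hx hy => simp only [TensorProduct.tmul_add, map_add, hx, hy]
  rw [along_eq, h, map_add, hl, hr]; rfl

theorem along_comp {n : M →ₗ[A] M ⊗[B] Ω} {nE : (M →ₗ[B] M) →ₗ[A] (M →ₗ[B] M) ⊗[B] Ω}
    (h : Conn.IsHomConn n n nE) (θ : Ω →ₗ[B] B) (f g : M →ₗ[B] M) :
    Conn.along nE θ (f ∘ₗ g) = Conn.along nE θ f ∘ₗ g + f ∘ₗ Conn.along nE θ g :=
  LinearMap.ext fun m => by
    simp only [LinearMap.add_apply, LinearMap.comp_apply, along_hom h, map_sub]; abel

theorem trace_along {δ : Derivation A B Ω} {n : M →ₗ[A] M ⊗[B] Ω} (hc : Conn.IsConn δ n) [Module.Free B M] [Module.Finite B M]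
    {nE : (M →ₗ[B] M) →ₗ[A] (M →ₗ[B] M) ⊗[B] Ω} (h : Conn.IsHomConn n n nE) (θ : Ω →ₗ[B] B) (φ : M →ₗ[B] M) :
    LinearMap.trace B M (Conn.along nE θ φ) = θ (δ (LinearMap.trace B M φ)) := by
  classical
  let b := Module.Free.chooseBasis B M
  let T : M →ₗ[B] M := b.constr B fun j => Conn.along n θ (b j)
  let Φ : M →ₗ[B] M := b.constr B fun j => ∑ i, θ (δ (b.repr (φ (b j)) i)) • b i
  have hT : ∀ x, Conn.along n θ x = T x + ∑ i, θ (δ (b.repr x i)) • b i := fun x => by
    conv_lhs => rw [← b.sum_repr x]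
    conv_rhs => arg 1; rw [← b.sum_repr x]
    simp only [map_sum, map_smul, along_conn hc, Finset.sum_add_distrib, T, Module.Basis.constr_basis]
  have hD : Conn.along nE θ φ = T * φ - φ * T + Φ := b.ext fun j => by
    simp only [along_hom h, LinearMap.add_apply, LinearMap.sub_apply, Module.End.mul_apply, hT (φ (b j)), T, Φ,
      Module.Basis.constr_basis]
    abel
  rw [hD, map_add, map_sub, LinearMap.trace_mul_comm, sub_self, zero_add, LinearMap.trace_eq_matrix_trace B b,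
    LinearMap.trace_eq_matrix_trace B b, Matrix.trace, Matrix.trace, map_sum, map_sum]
  refine Finset.sum_congr rfl fun j _ => ?_
  simp only [Matrix.diag_apply, LinearMap.toMatrix_apply, Φ, Module.Basis.constr_basis, map_sum, map_smul,
    Module.Basis.repr_self, Finsupp.smul_single, smul_eq_mul, mul_one, Finsupp.coe_finset_sum, Finset.sum_apply,
    Finsupp.single_apply, Finset.sum_ite_eq', Finset.mem_univ, if_true]

end Groth.Agent.Conn3
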